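import Cfsg.Agent.QdSection.Stability
import Cfsg.Agent.ConjFunctor.KInfFusion

/-!
Groups whose automizers of `p`-subgroups have no sections `SL(2, p)`.
-/

set_option autoImplicit false

open Cfsg

namespace CfsgLib.ConjFunctor

universe u

variable {p : ℕ} [Fact p.Prime]

open CfsgLib.QdRankTwo in
/-- The translations of `Qd(p)` are self-centralizing. -/
theorem qdToSL_eq_one_of_commute {q : Cfsg.qd p}
    (h : ∀ t ∈ CfsgLib.DefChar.qdTranslations p, t * q = q * t) : QdSection.qdToSL q = 1 := by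
  obtain ⟨a, b, c, d, u, v, hdet, rfl⟩ := exists_qM q
  have key : ∀ x y : ZMod p, x = a * x + b * y ∧ y = c * x + d * y := by
    intro x y
    have h1 := h _ (tV_mem x y)
    simp only [tV] at h1
    rw [qM_mul, qM_mul] at h1
    have h2 : ∀ i j, _ = _ := fun i j => congrFun (congrFun (congrArg (fun z : Cfsg.qd p => z.1.1) h1) i) j
    have e0 := h2 0 2
    have e1 := h2 1 2
    simp [qM] at e0 e1
    exact ⟨by linear_combination e0, by linear_combination e1⟩
  obtain ⟨ha, hc⟩ := key 1 0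
  obtain ⟨hb, hd⟩ := key 0 1
  apply Subtype.ext
  show (!![_, _; _, _] : Matrix (Fin 2) (Fin 2) (ZMod p)) = 1
  ext i j
  simp only [mul_one, mul_zero, add_zero, zero_add] at ha hb hc hd
  subst ha hb hc hd
  fin_cases i <;> fin_cases j <;> simp [qM]

variable {G : Type*} [Group G] [Finite G]

/-- If `Qd(p)` is involved then some automizer of a `p`-subgroup has a section `SL(2, p)`. -/
theorem exists_automizer_section_of_involves_qd (h : Involves (Cfsg.qd p) G) :
    ∃ Q : Subgroup G, IsPGroup p ↥Q ∧ ∃ (H L : Subgroup G) (_ : (L.subgroupOf H).Normal),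
      Subgroup.centralizer (Q : Set G) ≤ L ∧ L ≤ H ∧ H ≤ Subgroup.normalizer (Q : Set G) ∧
      Nonempty ((↥H ⧸ L.subgroupOf H) ≃* Matrix.SpecialLinearGroup (Fin 2) (ZMod p)) := by
  obtain ⟨K, R, hR, ⟨e⟩⟩ := h
  set π : ↥K →* Cfsg.qd p := e.toMonoidHom.comp (QuotientGroup.mk' (R.subgroupOf K)) with hπdef
  have hπ : Function.Surjective π := e.surjective.comp (QuotientGroup.mk'_surjective _)
  set T := CfsgLib.DefChar.qdTranslations p with hTdef
  set V := T.comap π with hVdef
  haveI : V.Normal := (CfsgLib.DefChar.qdTranslations_normal p).comap _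
  obtain ⟨P⟩ : Nonempty (Sylow p ↥V) := inferInstance
  set Q' := (P : Subgroup ↥V).map V.subtype with hQ'
  set Q := Q'.map K.subtype with hQdef
  -- `Q'` covers the translations
  have hcov : ∀ t ∈ T, ∃ x ∈ Q', π x = t := by
    let r : ↥V →* ↥T := (π.comp V.subtype).codRestrict T (fun x => x.2)
    have hr : Function.Surjective r := by
      rintro ⟨t, ht⟩
      obtain ⟨x, rfl⟩ := hπ t
      exact ⟨⟨x, ht⟩, rfl⟩
    intro t ht
    have htop : ((P.mapSurjective hr : Sylow p ↥T) : Subgroup ↥T) = ⊤ :=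
      (P.mapSurjective hr).3 ((CfsgLib.DefChar.qdTranslations_isPGroup p).to_subgroup ⊤) le_top |>.symm
    obtain ⟨x, hx, hxt⟩ : (⟨t, ht⟩ : ↥T) ∈ (P : Subgroup ↥V).map r := by
      rw [← Sylow.coe_mapSurjective hr P, htop]; trivial
    exact ⟨x, ⟨x, hx, rfl⟩, congrArg Subtype.val hxt⟩
  set N' := Subgroup.normalizer (Q' : Set ↥K) with hN'
  set f : ↥N' →* Matrix.SpecialLinearGroup (Fin 2) (ZMod p) :=
    QdSection.qdToSL.comp (π.comp N'.subtype) with hf
  have hfs : Function.Surjective f := by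
    intro s
    obtain ⟨q, rfl⟩ := QdSection.qdToSL_surjective (p := p) s
    obtain ⟨k, rfl⟩ := hπ q
    have hk : k ∈ N' ⊔ V := by rw [Sylow.normalizer_sup_eq_top P]; trivial
    obtain ⟨n, hn, v, hv, rfl⟩ := Subgroup.mem_sup_of_normal_right.mp hk
    refine ⟨⟨n, hn⟩, ?_⟩
    have h1 : QdSection.qdToSL (π v) = 1 := qdToSL_eq_one_of_commute fun t ht =>
      CfsgLib.QdRankTwo.translations_comm ht hv
    simp [hf, h1]
  set M := Subgroup.normalizer (Q : Set G) with hM
  let j : ↥N' →* ↥M := (K.subtype.comp N'.subtype).codRestrict M (fun n =>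
    Subgroup.le_normalizer_map K.subtype ⟨(n : ↥K), n.2, rfl⟩)
  set C := (Subgroup.centralizer (Q : Set G)).subgroupOf M with hC
  let g : ↥N' →* ↥M ⧸ C := (QuotientGroup.mk' C).comp j
  have hker : g.ker ≤ f.ker := by
    intro n hn
    have hn' : j n ∈ C := (QuotientGroup.eq_one_iff _).mp hn
    refine qdToSL_eq_one_of_commute fun t ht => ?_
    obtain ⟨x, hx, rfl⟩ := hcov t ht
    show π x * π (n : ↥K) = π (n : ↥K) * π x
    rw [← map_mul, ← map_mul]
    exact congrArg π (Subtype.ext (hn' (x : G) ⟨x, hx, rfl⟩))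
  let eg := QuotientGroup.quotientKerEquivRange g
  let f' : g.range →* Matrix.SpecialLinearGroup (Fin 2) (ZMod p) :=
    (QuotientGroup.lift g.ker f hker).comp eg.symm.toMonoidHom
  have hf's : Function.Surjective f' := fun q => by
    obtain ⟨x, rfl⟩ := hfs q
    exact ⟨eg (QuotientGroup.mk x), by simp [f']⟩
  set H₁ := g.range.comap (QuotientGroup.mk' C) with hH₁
  let f₁ : ↥H₁ →* Matrix.SpecialLinearGroup (Fin 2) (ZMod p) :=
    f'.comp ((QuotientGroup.mk' C).subgroupComap g.range)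
  have hf₁s : Function.Surjective f₁ :=
    hf's.comp ((QuotientGroup.mk' C).subgroupComap_surjective_of_surjective _ (QuotientGroup.mk'_surjective _))
  set H := H₁.map M.subtype with hH
  let eH : ↥H₁ ≃* ↥H := H₁.equivMapOfInjective M.subtype M.subtype_injective
  let f₂ : ↥H →* Matrix.SpecialLinearGroup (Fin 2) (ZMod p) := f₁.comp eH.symm.toMonoidHom
  have hf₂s : Function.Surjective f₂ := hf₁s.comp eH.symm.surjective
  have hL : (f₂.ker.map H.subtype).subgroupOf H = f₂.ker :=
    Subgroup.comap_map_eq_self_of_injective H.subtype_injective _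
  have hLn : ((f₂.ker.map H.subtype).subgroupOf H).Normal := by rw [hL]; infer_instance
  refine ⟨Q, (P.2.map _).map _, H, f₂.ker.map H.subtype, hLn, ?_, Subgroup.map_subtype_le _,
    Subgroup.map_subtype_le _,
    ⟨(QuotientGroup.quotientMulEquivOfEq hL).trans (QuotientGroup.quotientKerEquivOfSurjective f₂ hf₂s)⟩⟩
  intro c hc
  have hcM : c ∈ M := Subgroup.centralizer_le_normalizer _ hc
  have hc1 : QuotientGroup.mk' C ⟨c, hcM⟩ = 1 := (QuotientGroup.eq_one_iff _).mpr hc
  have hcH : (⟨c, hcM⟩ : ↥M) ∈ H₁ := by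
    rw [hH₁, Subgroup.mem_comap, hc1]; exact Subgroup.one_mem _
  refine ⟨eH ⟨_, hcH⟩, ?_, rfl⟩
  show f₁ (eH.symm (eH ⟨_, hcH⟩)) = 1
  rw [eH.symm_apply_apply]
  show f' _ = 1
  convert map_one f'
  exact Subtype.ext hc1

end CfsgLib.ConjFunctor
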